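import Cfsg.Agent.Lib.Comp.Fast

set_option maxRecDepth 100000
set_option Elab.async false

namespace Cfsg.Lib.Comp.S44x

universe u

def iv : ℕ → ℕ := (fun x => look (nat_lit 0xffef7cefae78df6d74cf2c70beeb6caeaa689e69648e28607de75c6da6585d65544d24503ce34c2ca247206143102040) 6 x)

noncomputable def R : List (List ℕ × ℕ) := [([1],1),
 ([2],1),
 ([1,2],1),
 ([3],2),
 ([1,3,2,4],0),
 ([1,2,3,1,4],0),
 ([5],1),
 ([6],1),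
 ([1,5],1),
 ([2,5],1),
 ([1,6],1),
 ([2,6],1),
 ([5,6],1),
 ([3,5],2),
 ([3,6],2),
 ([3,6,4,5],1),
 ([7],2),
 ([1,8,6,7],0),
 ([3,7],2),
 ([1,3,7,4,5,8],0),
 ([1,4,6,8,2,3,7],0),
 ([9],1),
 ([1,9],2),
 ([3,8,9,4,9,8],0),
 ([10],1),
 ([1,10],1),
 ([2,10],1),
 ([9,10],1),
 ([6,10],2),
 ([5,10],3),
 ([7,10],3),
 ([3,9,8,5,10],1),
 ([3,4],0),
 ([7,8],0)]

def L : List ℕ := [1,2,3,4,5,6,7,8,9,10]

end Cfsg.Lib.Comp.S44x
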