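import Cfsg.Agent.Lib.Comp.S44x.Tab
import Cfsg.Agent.Lib.Forms.Symp

set_option maxRecDepth 100000
set_option Elab.async false

namespace Cfsg.Lib.Comp.S44x

open Cfsg.Lib.MatB Matrix

universe u

theorem mctx : Ctx 6 2 4 8 (QuadraticAlgebra.omega : K4) (eSum 2 2) mrd :=
  ⟨by decide +kernel, by decide +kernel, by decide +kernel, Or.inl rfl, by decide +kernel, by norm_num, by norm_num, mrd_eq⟩

theorem mok : ∀ x, TabOK 6 4 8 (QuadraticAlgebra.omega : K4) mrd (mtab x) := tabOK_nth (by decide +kernel)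

noncomputable abbrev mM (x : ℕ) : Matrix (Fin 2 ⊕ Fin 2) (Fin 2 ⊕ Fin 2) K4 :=
  tm 6 4 (QuadraticAlgebra.omega : K4) (eSum 2 2) (mtab x)

noncomputable def mR : List (List ℕ × ℕ) := apd R (L.map fun x => ([x, iv x], 0))

theorem mside : SideOK iv R mR L := by decide +kernel

theorem mrel : relB 6 4 mrd mtab [0] mR = true := by decide +kernel

theorem msp : ∀ x ∈ L, mM x * Matrix.J (Fin 2) K4 * (mM x)ᵀ = Matrix.J (Fin 2) K4 := by decide +kernel

theorem iso {F : Type u} [Field F] [Fintype F] (hF : Fintype.card F = 4) :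
    Nonempty (cl (gp nets) L ≃* symplecticGroup (Fin 2) F) := by
  obtain ⟨φ⟩ := hom4 hF
  have := simple
  have := nets_ok.finite L
  obtain ⟨f, hf⟩ := bridge_ex nets_iv nets_rel ord card mside φ φ.injective (symplecticGroup (Fin 2) F).subtype
    Subtype.val_injective (M := mM) (fun x hx => sp_mem φ (msp x hx)) (by decide +kernel) (mctx.rel mok mrel)
    (x := 1) (y := 3) (by decide) (by decide) (i := .inr 1) (j := .inl 1) (by decide +kernel)
  refine iso_of_inj hf ?_
  rw [card, Forms.card_symplecticGroup, Nat.card_eq_fintype_card (α := F), hF]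
  simp [Forms.spOrder, Finset.prod_range_succ]

end Cfsg.Lib.Comp.S44x
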