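import Cfsg.Agent.Lib.Comp.S44x.Base

set_option maxRecDepth 100000
set_option Elab.async false

namespace Cfsg.Lib.Comp.S44x

universe u

noncomputable def nets_1 : Net :=
 (Net.cons 24 (nat_lit 0x400000000000800000)
 (Net.cons 12 (nat_lit 0x400000000000800)
 (Net.cons 6 (nat_lit 0x1000c038028020000000020)
 (Net.cons 3 (nat_lit 0x2086184180004082082180)
 (Net.cons 1 (nat_lit 0x1048048048001041041040)
 (Net.cons 1 (nat_lit 0x492492490002492492480)
 (Net.cons 1 (nat_lit 0x201201048001208208200)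
 (Net.cons 3 (nat_lit 0x2182043180004145145040)
 (Net.cons 6 (nat_lit 0x10033038028020021021020)
 (Net.cons 12 (nat_lit 0x401000400000801000800)
 (Net.cons 24 (nat_lit 0x400000000000800000)
 Net.nil)))))))))))

noncomputable def nets_2 : Net :=
 (Net.cons 24 (nat_lit 0x200000000000400000)
 (Net.cons 12 (nat_lit 0xe00000e00000000000400)
 (Net.cons 6 (nat_lit 0x2003802003001000c00c028)
 (Net.cons 3 (nat_lit 0x4180000000002082082180)
 (Net.cons 1 (nat_lit 0x201040241040001048048048)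
 (Net.cons 1 (nat_lit 0x2482012010000492492490)
 (Net.cons 1 (nat_lit 0x1200008000000201201048)
 (Net.cons 3 (nat_lit 0x4041107100002082082180)
 (Net.cons 6 (nat_lit 0x20038020030010033033028)
 (Net.cons 12 (nat_lit 0xe00000e00000401000400)
 (Net.cons 24 (nat_lit 0x200000000000400000)
 Net.nil)))))))))))

noncomputable def nets_3 : Net :=
 (Net.cons 48 (nat_lit 0x800000000000)
 (Net.cons 24 (nat_lit 0x400000)
 (Net.cons 12 (nat_lit 0x934000e00000866000e00)
 (Net.cons 6 (nat_lit 0x2402a01600002202401a020)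
 (Net.cons 3 (nat_lit 0x2086184100004000106100)
 (Net.cons 1 (nat_lit 0x1049209000201248201200)
 (Net.cons 1 (nat_lit 0x2002490092490480492080)
 (Net.cons 1 (nat_lit 0x1200049008040208040)
 (Net.cons 3 (nat_lit 0x1020061c41451c41c1083100)
 (Net.cons 6 (nat_lit 0x402203402100b038031020)
 (Net.cons 12 (nat_lit 0x934000e00000aab000e00)
 (Net.cons 24 (nat_lit 0x800001000000200000)
 (Net.cons 48 (nat_lit 0x800000000000)
 Net.nil)))))))))))))

noncomputable def nets_5 : Net :=
 (Net.cons 48 (nat_lit 0x430000000000)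
 (Net.cons 24 (nat_lit 0x691050000000fba000)
 (Net.cons 12 (nat_lit 0x464000284000000000580)
 (Net.cons 6 (nat_lit 0x8028030020000020008)
 (Net.cons 3 (nat_lit 0x2180000080000082002180)
 (Net.cons 1 (nat_lit 0x241200241049240249041048)
 (Net.cons 1 (nat_lit 0x490012000492410092490)
 (Net.cons 1 (nat_lit 0x200008000009208041048)
 (Net.cons 3 (nat_lit 0x61810070840c6082082180)
 (Net.cons 6 (nat_lit 0xa02803001f01702d008)
 (Net.cons 12 (nat_lit 0x4640007ac000a00000580)
 (Net.cons 24 (nat_lit 0x691050000000fba000)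
 (Net.cons 48 (nat_lit 0x430000000000)
 Net.nil)))))))))))))

noncomputable def nets_6 : Net :=
 (Net.cons 48 (nat_lit 0x214000000000)
 (Net.cons 24 (nat_lit 0xe14000000000d08288)
 (Net.cons 12 (nat_lit 0x210000e96000f28)
 (Net.cons 6 (nat_lit 0x2000000020000000034)
 (Net.cons 3 (nat_lit 0x4000182100082180)
 (Net.cons 1 (nat_lit 0x200248000001041000041248)
 (Net.cons 1 (nat_lit 0x400410010002492400492080)
 (Net.cons 1 (nat_lit 0x200208000001041000041040)
 (Net.cons 3 (nat_lit 0x2004002182100082184)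
 (Net.cons 6 (nat_lit 0x600000803802303a034)
 (Net.cons 12 (nat_lit 0xe01000210000e96000f28)
 (Net.cons 24 (nat_lit 0xe14000000000d08288)
 (Net.cons 48 (nat_lit 0x214000000000)
 Net.nil)))))))))))))

noncomputable def nets_7 : Net :=
 (Net.cons 48 (nat_lit 0xffe000000000)
 (Net.cons 24 (nat_lit 0xfc8a42000000600000)
 (Net.cons 12 (nat_lit 0xd7600063400054a000c88)
 (Net.cons 6 (nat_lit 0x1600000000400c00c006038)
 (Net.cons 3 (nat_lit 0x4002082000086000086004)
 (Net.cons 1 (nat_lit 0x48041248008048008009008)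
 (Net.cons 1 (nat_lit 0x410492400490010410082490)
 (Net.cons 1 (nat_lit 0x249200000000008041248)
 (Net.cons 3 (nat_lit 0x1020461061020c61011851c4)
 (Net.cons 6 (nat_lit 0x3f01201203100c00c027034)
 (Net.cons 12 (nat_lit 0x3520000b300054a000df0)
 (Net.cons 24 (nat_lit 0xeebf2000000600000)
 (Net.cons 48 (nat_lit 0xffe000000000)
 Net.nil)))))))))))))

noncomputable def nets_9 : Net :=
 (Net.cons 48 (nat_lit 0x971352400000)
 (Net.cons 24 (nat_lit 0xd99b88000000600040)
 (Net.cons 12 (nat_lit 0xdf8000984000a28000a14)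
 (Net.cons 6 (nat_lit 0x2000a030020004000038024)
 (Net.cons 3 (nat_lit 0x100000006104102000)
 (Net.cons 1 (nat_lit 0x48040040249009200048008)
 (Net.cons 1 (nat_lit 0x90492400092002410080002)
 (Net.cons 1 (nat_lit 0x48200000049001200040000)
 (Net.cons 3 (nat_lit 0x801c61040001061051861c0)
 (Net.cons 6 (nat_lit 0x2000a030020004000038024)
 (Net.cons 12 (nat_lit 0xdf9000984000e28000a14)
 (Net.cons 24 (nat_lit 0xd99b88000000600040)
 (Net.cons 48 (nat_lit 0x971352400000)
 Net.nil)))))))))))))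

noncomputable def nets_10 : Net :=
 (Net.cons 48 (nat_lit 0x601e00000000)
 (Net.cons 24 (nat_lit 0xe01e00000000bfe000)
 (Net.cons 12 (nat_lit 0xb60000e000009e00003ec)
 (Net.cons 6 (nat_lit 0xc02800002000c02803800a)
 (Net.cons 3 (nat_lit 0x100000004100080004000000)
 (Net.cons 1 (nat_lit 0x49008001040240001240001)
 (Net.cons 1 (nat_lit 0x92010482080092002080080)
 (Net.cons 1 (nat_lit 0x49008001040040001040000)
 (Net.cons 3 (nat_lit 0x1000811c4000087005101044)
 (Net.cons 6 (nat_lit 0xc02800003800c02803800a)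
 (Net.cons 12 (nat_lit 0xb60000e00000be10003ec)
 (Net.cons 24 (nat_lit 0xe01e00000000bffe00)
 (Net.cons 48 (nat_lit 0x601e01e001e4)
 Net.nil)))))))))))))

noncomputable def nets : List Net := [Net.nil,
 nets_1,
 nets_2,
 nets_3,
 Net.rev nets_3,
 nets_5,
 nets_6,
 nets_7,
 Net.rev nets_7,
 nets_9,
 nets_10]

theorem nets_ok : NetsOK 96 nets := netsOK_of (by decide +kernel)

theorem nets_rel : Rels (gp nets) R := rels_of_relsB (k := 7) nets_ok (by norm_num) (by decide +kernel)

theorem nets_iv : IvOK (gp nets) iv := ivOK_of_ivB (k := 7) nets_ok (by norm_num) (by decide +kernel)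

noncomputable def slp : List (ℕ × List ℕ) := []

theorem slp_ok : slpB 96 7 nets slp L = true := by decide +kernel

theorem mem_all {x : ℕ} (h : x ∈ L ++ slp.map (·.1)) : gp nets x ∈ cl (gp nets) L :=
  cl_eq_of_slpB nets_ok (by norm_num) slp_ok ▸ mem_cl h

theorem lb : 979200 ≤ Nat.card (cl (gp nets) L) := by
  rw [← cl_eq_of_slpB nets_ok (by norm_num) slp_ok]
  exact lb_of_chainB nets_ok (C := [([1,2,3,4,5,6,7,8,9],[10,3,5,6,7,9,7,10,3,1,9],0,0,85),
 ([1,2,3,4,5,6,7,8],[9,1,2,5,6,9],1,1,20),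
 ([1,2,3,4,5,6],[7,7],2,2,3),
 ([1,2,3,4],[5,6,3,3,5,3],37,37,16),
 ([1,2],[3,3],38,38,3),
 ([],[1,2],57,57,4)]) (by decide +kernel)

end Cfsg.Lib.Comp.S44x
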