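import Cfsg.Agent.Lib.Comp.S44x.Base

set_option maxRecDepth 100000
set_option Elab.async false

namespace Cfsg.Lib.Comp.S44x

universe u

noncomputable def T2_R : List (List ℕ × ℕ) := [([1],1),
 ([2],1),
 ([1,2],1),
 ([3],2),
 ([1,3,2,4],0),
 ([1,2,3,1,4],0),
 ([5],1),
 ([6],1),
 ([1,5],1),
 ([2,5],1),
 ([1,6],1),
 ([2,6],1),
 ([5,6],1),
 ([3,5],2),
 ([3,6],2),
 ([3,6,4,5],1),
 ([7],2),
 ([1,8,6,7],0),
 ([3,7],2),
 ([1,3,7,4,5,8],0),
 ([1,4,6,8,2,3,7],0),
 ([3,4],0),
 ([7,8],0)]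

noncomputable def T2_n_7 : Net :=
 (Net.cons 1 (nat_lit 0x2)
 (Net.cons 1 (nat_lit 0x1)
 Net.nil))

noncomputable def T2_n : List Net := [Net.nil,
 Net.nil,
 Net.nil,
 Net.nil,
 Net.nil,
 Net.nil,
 Net.nil,
 T2_n_7,
 Net.rev T2_n_7]

theorem T2_n_ok : NetsOK 3 T2_n := netsOK_of (by decide +kernel)

theorem T2_n_rel : Rels (gp T2_n) T2_R := rels_of_relsB (k := 2) T2_n_ok (by norm_num) (by decide +kernel)

noncomputable def T2_b0h : ℕ := (nat_lit 0x1000002000002000000000200000a000300000200000a000800000400000a000600000a00000a000100000200000a0002000004000004000200000100000100000000010000030001000004000004000600000100000400030000010000040002000001000003)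

noncomputable def T2_b0c : List ℕ := [(nat_lit 0x1d00002f00030200001f00000e00000500001900002500002100002b00c20700001f00001000000a00000800000e00aa0500001f00000e00000900900300001f00000c00001d00540300000000000f000007000002000005002a0400000100001300070200000300000500000f00000700200400000b00000200000900520300000700000200000e00000600000400001000c60600000000000000000d)]

theorem T2_fin : finB 3 T2_n [1,2,3,4,5,6,7,8] 3 (runH 3 T2_n (tbk 2 4 prs2 T2_n 4) iv T2_R [] ([1,2,3,4,5,6].map fun x => [x]) 0 [(fun t => look T2_b0h 64 t, T2_b0c)]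
  [1,5,9,13,17,21,88,64,68,88,2,68,76,80,84,76]
  (defsH 3 T2_n (ones 33) [7,8] (Nat.shiftLeft 1 0) 0)) = true := by decide +kernel

theorem T2_idx : Idx.{u} iv (T2_R ++ []) ([1,2,3,4,5,6].map fun x => [x]) [1,2,3,4,5,6,7,8] 3 :=
  Reach.idx T2_n_ok (reach_runH T2_n_ok (tbk_eq tr2 (by norm_num) (by norm_num) (by norm_num) T2_n_ok) T2_n_rel (reach_defsH T2_n_ok _ _ _ _ _ _) _ _) T2_fin (by norm_num)

end Cfsg.Lib.Comp.S44x
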