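import Cfsg.Agent.Lib.Comp.S44x.Base

set_option maxRecDepth 100000
set_option Elab.async false

namespace Cfsg.Lib.Comp.S44x

universe u

noncomputable def T3_R : List (List ℕ × ℕ) := [([1],1),
 ([2],1),
 ([1,2],1),
 ([3],2),
 ([1,3,2,4],0),
 ([1,2,3,1,4],0),
 ([5],1),
 ([6],1),
 ([1,5],1),
 ([2,5],1),
 ([1,6],1),
 ([2,6],1),
 ([5,6],1),
 ([3,5],2),
 ([3,6],2),
 ([3,6,4,5],1),
 ([3,4],0)]

noncomputable def T3_n_3 : Net :=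
 (Net.cons 8 (nat_lit 0xd0)
 (Net.cons 4 (nat_lit 0x8)
 (Net.cons 2 (nat_lit 0x200)
 (Net.cons 1 (nat_lit 0x5450)
 (Net.cons 2 (nat_lit 0x132)
 (Net.cons 4 (nat_lit 0x704)
 (Net.cons 8 (nat_lit 0xa6)
 Net.nil)))))))

noncomputable def T3_n_5 : Net :=
 (Net.cons 8 (nat_lit 0xf0)
 (Net.cons 4 (nat_lit 0xc)
 (Net.cons 1 (nat_lit 0x1141)
 (Net.cons 2 (nat_lit 0x3030)
 (Net.cons 4 (nat_lit 0xc00)
 (Net.cons 8 (nat_lit 0xc)
 Net.nil))))))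

noncomputable def T3_n_6 : Net :=
 (Net.cons 8 (nat_lit 0x64)
 (Net.cons 4 (nat_lit 0x200)
 (Net.cons 2 (nat_lit 0x200)
 (Net.cons 1 (nat_lit 0x5154)
 (Net.cons 2 (nat_lit 0x301)
 (Net.cons 4 (nat_lit 0x40a)
 (Net.cons 8 (nat_lit 0x9b)
 Net.nil)))))))

noncomputable def T3_n : List Net := [Net.nil,
 Net.nil,
 Net.nil,
 T3_n_3,
 Net.rev T3_n_3,
 T3_n_5,
 T3_n_6]

theorem T3_n_ok : NetsOK 16 T3_n := netsOK_of (by decide +kernel)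

theorem T3_n_rel : Rels (gp T3_n) T3_R := rels_of_relsB (k := 4) T3_n_ok (by norm_num) (by decide +kernel)

theorem T3_fin : finB 16 T3_n [1,2,3,4,5,6] 16 (runH 16 T3_n (fun x p => ptInv (nth Net.nil T3_n x) p) iv T3_R [] ([1,2,3,4].map fun x => [x]) 0 []
  [1,5,9,13,24,28,32,36,40,44,48,64,12,16,20,32,36,40,44,52,56,60,64,12,16,24,28,48,52,56,60]
  (defsH 16 T3_n (ones 176) [5,6,3,4,5,6] (Nat.shiftLeft 1 0) 0)) = true := by decide +kernel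

theorem T3_idx : Idx.{u} iv (T3_R ++ []) ([1,2,3,4].map fun x => [x]) [1,2,3,4,5,6] 16 :=
  Reach.idx T3_n_ok (reach_runH T3_n_ok (fun x p _ => ptInv_gp T3_n_ok x p) T3_n_rel (reach_defsH T3_n_ok _ _ _ _ _ _) _ _) T3_fin (by norm_num)

end Cfsg.Lib.Comp.S44x
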