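import Cfsg.Agent.Lib.Comp.S44x.Base

set_option maxRecDepth 100000
set_option Elab.async false

namespace Cfsg.Lib.Comp.S44x

universe u

noncomputable def T4_R : List (List ℕ × ℕ) := [([1],1),
 ([2],1),
 ([1,2],1),
 ([3],2),
 ([1,3,2,4],0),
 ([1,2,3,1,4],0),
 ([3,4],0)]

noncomputable def T4_n_3 : Net :=
 (Net.cons 1 (nat_lit 0x2)
 (Net.cons 1 (nat_lit 0x1)
 Net.nil))

noncomputable def T4_n : List Net := [Net.nil,
 Net.nil,
 Net.nil,
 T4_n_3,
 Net.rev T4_n_3]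

theorem T4_n_ok : NetsOK 3 T4_n := netsOK_of (by decide +kernel)

theorem T4_n_rel : Rels (gp T4_n) T4_R := rels_of_relsB (k := 2) T4_n_ok (by norm_num) (by decide +kernel)

theorem T4_fin : finB 3 T4_n [1,2,3,4] 3 (runH 3 T4_n (fun x p => ptInv (nth Net.nil T4_n x) p) iv T4_R [] ([1,2].map fun x => [x]) 0 []
  [1,5,24,12,16,20,24]
  (defsH 3 T4_n (ones 33) [3,4] (Nat.shiftLeft 1 0) 0)) = true := by decide +kernel

theorem T4_idx : Idx.{u} iv (T4_R ++ []) ([1,2].map fun x => [x]) [1,2,3,4] 3 :=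
  Reach.idx T4_n_ok (reach_runH T4_n_ok (fun x p _ => ptInv_gp T4_n_ok x p) T4_n_rel (reach_defsH T4_n_ok _ _ _ _ _ _) _ _) T4_fin (by norm_num)

end Cfsg.Lib.Comp.S44x
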