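import Cfsg.Agent.Lib.Comp.S44x.Main
import Cfsg.Agent.Lib.MatB.Fam

set_option maxRecDepth 100000
set_option Elab.async false

namespace Cfsg.Lib.Comp.S44x

universe u

open Cfsg.Lib.MatB

def mT0 : List ℕ := [(nat_lit 0x1), (nat_lit 0x40), (nat_lit 0x1000), (nat_lit 0x40000), (nat_lit 0x1000000), (nat_lit 0x40000000), (nat_lit 0x1000000000), (nat_lit 0x40000000000)]
def mT1 : List ℕ := [(nat_lit 0x1), (nat_lit 0x40), (nat_lit 0x1000), (nat_lit 0x40040000), (nat_lit 0x1000000), (nat_lit 0x40000000), (nat_lit 0x1000000000), (nat_lit 0x40040000040)]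
def mT2 : List ℕ := [(nat_lit 0x1), (nat_lit 0x40), (nat_lit 0x1000), (nat_lit 0x40040), (nat_lit 0x1000000), (nat_lit 0x40000000), (nat_lit 0x1000000000), (nat_lit 0x40040000000)]
def mT3 : List ℕ := [(nat_lit 0x1000000), (nat_lit 0x40000000), (nat_lit 0x1000001001), (nat_lit 0x40000040000), (nat_lit 0x1000001), (nat_lit 0x40000040), (nat_lit 0x1001000), (nat_lit 0x40000)]
def mT4 : List ℕ := [(nat_lit 0x1000001), (nat_lit 0x40000040), (nat_lit 0x1000000001), (nat_lit 0x40000000000), (nat_lit 0x1), (nat_lit 0x40), (nat_lit 0x1001001000), (nat_lit 0x40000040000)]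
def mT5 : List ℕ := [(nat_lit 0x1), (nat_lit 0x40), (nat_lit 0x40001000), (nat_lit 0x41040000), (nat_lit 0x1000000), (nat_lit 0x40000000), (nat_lit 0x1040000040), (nat_lit 0x40041000041)]
def mT6 : List ℕ := [(nat_lit 0x1), (nat_lit 0x40), (nat_lit 0x41001041), (nat_lit 0x41040041), (nat_lit 0x1000000), (nat_lit 0x40000000), (nat_lit 0x1000000041), (nat_lit 0x40000000041)]
def mT7 : List ℕ := [(nat_lit 0x1), (nat_lit 0x40000001), (nat_lit 0x40001041040), (nat_lit 0x40040040041), (nat_lit 0x1000000), (nat_lit 0x41000040), (nat_lit 0x1041040001), (nat_lit 0x1040040)]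
def mT8 : List ℕ := [(nat_lit 0x1), (nat_lit 0x41000041), (nat_lit 0x1041040), (nat_lit 0x40040000041), (nat_lit 0x1000000), (nat_lit 0x41), (nat_lit 0x41041000001), (nat_lit 0x40001040040)]
def mT9 : List ℕ := [(nat_lit 0x1), (nat_lit 0x40001040000), (nat_lit 0x40040001041), (nat_lit 0x41000001), (nat_lit 0x1000000), (nat_lit 0x1040001), (nat_lit 0x41001040040), (nat_lit 0x40000041)]
def mT10 : List ℕ := [(nat_lit 0x1001000041), (nat_lit 0x40), (nat_lit 0x1001001040), (nat_lit 0x40041041), (nat_lit 0x1040001001), (nat_lit 0x40000000), (nat_lit 0x41001001), (nat_lit 0x41001000040)]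

def mtabs : List (List ℕ) := [mT0, mT1, mT2, mT3, mT4, mT5, mT6, mT7, mT8, mT9, mT10]

noncomputable def mtab : ℕ → List ℕ := nth mT0 mtabs

def mrd (v : ℕ) : ℕ := Nat.land v (nat_lit 0x41041041041)

theorem mrd_eq (v : ℕ) : mrd v = red 6 2 8 v :=
  (congrArg (Nat.land v) (by decide +kernel : (nat_lit 0x41041041041) = rep 6 8)).trans (land_rep (by norm_num) 8 v)

def mZ : List ℕ := [0]

end Cfsg.Lib.Comp.S44x
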